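import Cfsg.Agent.H819.K4.HSCol
import Cfsg.Agent.H329.K4.SigCol
import Cfsg.Agent.H714.K4.Defs
import Cfsg.Agent.QTNorm.SporHS
import Cfsg.Agent.Prune
set_option linter.all false
prune_inst 0x7f00000000000000000000000000000000000000000000000000000000000000000000000000000000000000000000000000000000000000000000000000000000000000000000000000000000000000003fffffffffffffffffffffffffffbeffbdffffffff
open scoped Cfsg.Agent.FastGrp

/-!
# K4 rows (S4947, S4547): the Higman-Sims group (helper819)

The rational characters `1`, `77`, `175`, `825` (action on the 1100 edges, rank 5); their values at an element of order 5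
are `1, 2, 0, 0`, with an odd sum, so there is a fifth one (column parity, H329/K4/SigCol.lean).

* `twoC`, `good5`, `odd5`, `rowA`.
-/

set_option autoImplicit false

namespace Cfsg.Agent.H819.K4.HS

open Cfsg Cfsg.Agent.Characters.Core Cfsg.Agent.H601.K4 Cfsg.Agent.H329.K4 Cfsg.Agent.H601.OddDeg
open Cfsg.Agent.HN Cfsg.Agent.HN.HS100 Subgroup
open Cfsg.Agent.H819.K4.HSCol

universe u

variable {S : Type u} [Group S]

/-- The centralizer of a Sylow 2-subgroup is a 2-group. -/
theorem twoC (h : Spor.IsoHS S) : TwoC S := by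
  have h1 := Cfsg.Agent.QTNorm.HSRow.selfN_hs h
  obtain ⟨T⟩ : Nonempty (Sylow 2 S) := inferInstance
  refine ⟨T, T.isPGroup', ?_⟩
  have h2 : centralizer ((T : Subgroup S) : Set S) ≤ (T : Subgroup S) := by
    refine le_trans ?_ (h1 T)
    exact centralizer_le_normalizer _
  exact T.isPGroup'.to_le h2

/-- The isomorphism with the permutation group. -/
theorem exists_iso (h : Spor.IsoHS S) : Nonempty (S ≃* Q) := by
  obtain ⟨e⟩ := h
  obtain ⟨⟨f⟩, -⟩ := AutHS.nonempty_Q
  exact ⟨e.trans f.symm⟩

/-- The transported character. -/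
theorem good_comp [Finite S] (hC : TwoC S) (e : S ≃* Q) {χ : Q → ℂ} {n : ℕ} (h1 : IsIrrCharacter Q χ) (h2 : χ 1 = n)
    (hn : n % 2 = 1) (h3 : ∀ g, ∃ q : ℚ, χ g = q) : Good (fun s => χ (e s)) := by
  have h4 : IsIrrCharacter S (fun s => χ (e s)) := isIrr_comp e.toMonoidHom e.surjective h1
  refine good_of_rat hC ⟨h4, ?_⟩ fun g => h3 (e g)
  have h5 : charDegree (fun s => χ (e s)) = n := by
    apply Cfsg.Agent.Blocks.Basic.charDegree_of_eq
    rw [map_one, h2]
  rw [h5]
  omega

/-- **Row `HS`**: five good characters. -/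
theorem good5 (h : Spor.IsoHS S) : Good5 S := by
  classical
  obtain ⟨e⟩ := exists_iso h
  have hfin : Finite S := Finite.of_equiv Q e.symm.toEquiv
  have hC := twoC h
  obtain ⟨g, hg5, hg⟩ := exists_five
  obtain ⟨a, ha1, ha2, ha3, ha4⟩ := exists_77
  obtain ⟨b, hb1, hb2, hb3, hb4⟩ := exists_175
  obtain ⟨c, hc1, hc2, hc3, hc4⟩ := exists_825
  have ga := good_comp hC e ha1 ha2 (by norm_num) ha3
  have gb := good_comp hC e hb1 hb2 (by norm_num) hb3
  have gc := good_comp hC e hc1 hc2 (by norm_num) hc3
  have hne : ∀ {α β : S → ℂ} {m n : ℕ}, α 1 = m → β 1 = n → m ≠ n → α ≠ β := by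
    intro α β m n h1 h2 h3 h4
    apply h3
    rw [h4, h2] at h1
    exact_mod_cast h1.symm
  have d1 : (fun _ : S => (1 : ℂ)) 1 = (1 : ℕ) := by simp
  have da : (fun s => a (e s)) 1 = (77 : ℕ) := by
    show a (e 1) = _
    rw [map_one, ha2]
  have db : (fun s => b (e s)) 1 = (175 : ℕ) := by
    show b (e 1) = _
    rw [map_one, hb2]
  have dc : (fun s => c (e s)) 1 = (825 : ℕ) := by
    show c (e 1) = _
    rw [map_one, hc2]
  obtain ⟨s, hs⟩ : ∃ s : Finset (S → ℂ), s = {(fun _ : S => (1 : ℂ)), fun s => a (e s), fun s => b (e s),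
    fun s => c (e s)} := ⟨_, rfl⟩
  have hmem : ∀ χ ∈ s, Good χ := by
    intro χ h
    rw [hs] at h
    simp only [Finset.mem_insert, Finset.mem_singleton] at h
    rcases h with rfl | rfl | rfl | rfl
    · exact good_one hC
    · exact ga
    · exact gb
    · exact gc
  have h1 : (fun _ : S => (1 : ℂ)) ∉ ({fun s => a (e s), fun s => b (e s), fun s => c (e s)} : Finset (S → ℂ)) := by
    simp only [Finset.mem_insert, Finset.mem_singleton, not_or]
    exact ⟨hne d1 da (by norm_num), hne d1 db (by norm_num), hne d1 dc (by norm_num)⟩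
  have h2 : (fun s => a (e s)) ∉ ({fun s => b (e s), fun s => c (e s)} : Finset (S → ℂ)) := by
    simp only [Finset.mem_insert, Finset.mem_singleton, not_or]
    exact ⟨hne da db (by norm_num), hne da dc (by norm_num)⟩
  have h3 : (fun s => b (e s)) ∉ ({fun s => c (e s)} : Finset (S → ℂ)) := by
    simp only [Finset.mem_singleton]
    exact hne db dc (by norm_num)
  have hcard : s.card = 4 := by
    rw [hs, Finset.card_insert_of_notMem h1, Finset.card_insert_of_notMem h2, Finset.card_insert_of_notMem h3,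
      Finset.card_singleton]
  have hsum : ∑ χ ∈ s, χ (e.symm g) = ((3 : ℤ) : ℂ) := by
    rw [hs, Finset.sum_insert h1, Finset.sum_insert h2, Finset.sum_insert h3, Finset.sum_singleton]
    simp only [e.apply_symm_apply]
    rw [ha4 g hg, hb4 g hg, hc4 g hg]
    norm_num
  have hord : Odd (orderOf (e.symm g)) := by
    rw [MulEquiv.orderOf_eq, hg5]
    decide
  have hev : Even (Nat.card S) := by
    rw [Nat.card_congr e.toEquiv, AutBound.card_Q]
    decide
  obtain ⟨d, hd, hds⟩ := exists_new hC hev s hmem hord (by decide) hsum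
  refine good5_of_finset (insert d s) ?_ ?_
  · intro χ hχ
    rcases Finset.mem_insert.1 hχ with rfl | h
    · exact hd
    · exact hmem χ h
  · rw [Finset.card_insert_of_notMem hds, hcard]

end Cfsg.Agent.H819.K4.HS
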